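import Cfsg.Agent.Lib.Perm.BinaryOneClass.Frame
import Cfsg.Agent.Lib.KGroups.AbelianTwo.Basic
import Cfsg.Agent.Lib.LocalEven.InvolvesDihedral
import Cfsg.Agent.Lib.FusionSystem.LocalModels
import Cfsg.Agent.S2758
import Cfsg.Agent.S2759

/-!
# Criteria for `S₄`-freeness and for involving `S₃`
-/

set_option autoImplicit false
set_option linter.style.haveILetI false

namespace CfsgLib.LocalEven.GoldschmidtFree

open Subgroup CfsgLib.LocalEven.InvolvesDihedral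

universe u v

variable {G : Type u} [Group G]

theorem involves_trans {H : Type*} [Group H] {X : Type v} [Group X] (e : X ≃* G)
    (h : Cfsg.Involves H X) : Cfsg.Involves H G :=
  CfsgLib.Fsys.involves_of_injective (e := e.toMonoidHom) e.injective h

/-- A 2-element inverting a nontrivial 3-element gives a section `S₃`. -/
theorem three_of_inverted [Finite G] {x y : G} (hx : ∃ k : ℕ, orderOf x = 2 ^ k)
    (hy : orderOf y = 3) (hxy : x * y * x⁻¹ = y⁻¹) :
    Cfsg.Involves (Equiv.Perm (Fin 3)) G := by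
  haveI : Fact (Nat.Prime 3) := ⟨Nat.prime_three⟩
  obtain ⟨e⟩ := Cfsg.Agent.S2759.perm_three_equiv
  refine Cfsg.Agent.S2759.involves_congr e.symm
    (involves_of_inverted (by norm_num) hx ⟨1, by rw [hy, pow_one]⟩ ?_ hxy)
  rintro rfl
  simp at hy

theorem three_of_inverted' [Finite G] {x y : G} (hx : x ^ 2 = 1) (hy : y ^ 3 = 1) (hy1 : y ≠ 1)
    (hxy : x * y * x⁻¹ = y⁻¹) : Cfsg.Involves (Equiv.Perm (Fin 3)) G := by
  haveI : Fact (Nat.Prime 3) := ⟨Nat.prime_three⟩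
  obtain ⟨k, -, hk⟩ := (Nat.dvd_prime_pow Nat.prime_two).1
    (orderOf_dvd_of_pow_eq_one (show x ^ 2 ^ 1 = 1 by rw [pow_one, hx]))
  exact three_of_inverted ⟨k, hk⟩ (orderOf_eq_prime hy hy1) hxy

/-- A section `S₃` gives a 2-element inverting a nontrivial 3-element. -/
theorem inverted_of_three [Finite G] (h : Cfsg.Involves (Equiv.Perm (Fin 3)) G) :
    ∃ x y : G, (∃ k : ℕ, orderOf x = 2 ^ k) ∧ orderOf y = 3 ∧ x * y * x⁻¹ = y⁻¹ := by
  haveI : Fact (Nat.Prime 3) := ⟨Nat.prime_three⟩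
  obtain ⟨e⟩ := Cfsg.Agent.S2759.perm_three_equiv
  obtain ⟨x, y, hx, ⟨k, hk⟩, hy1, hxy⟩ :=
    (Cfsg.Agent.S2758.result (G := G) (p := 3) (by norm_num)).2.1 (Cfsg.Agent.S2759.involves_congr e h)
  obtain ⟨j, rfl⟩ : ∃ j, k = j + 1 := Nat.exists_eq_succ_of_ne_zero (by
    rintro rfl; exact hy1 (orderOf_eq_one_iff.1 (by rw [hk, pow_zero])))
  refine ⟨x, y ^ 3 ^ j, hx, ?_, CfsgLib.Involution.Dihedral.conj_pow hxy _⟩
  rw [orderOf_pow_of_dvd (pow_ne_zero _ (by norm_num)) (hk ▸ pow_dvd_pow 3 (Nat.le_succ j)), hk,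
    pow_succ, Nat.mul_div_cancel_left _ (pow_pos (by norm_num) j)]

/-- Groups with abelian Sylow 2-subgroups are `S₄`-free. -/
theorem noFour_of_abTwo [Finite G] (h : CfsgLib.KGroups.AbelianTwo.AbTwo G) :
    ¬ Cfsg.Involves (Equiv.Perm (Fin 4)) G := by
  haveI : Fact (Nat.Prime 2) := ⟨Nat.prime_two⟩
  intro hi
  obtain ⟨K, f, hf⟩ := exists_surjective hi
  let r : Equiv.Perm (Fin 4) := Equiv.swap 0 1 * Equiv.swap 1 2 * Equiv.swap 2 3
  let w : Equiv.Perm (Fin 4) := Equiv.swap 0 2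
  set D : Subgroup (Equiv.Perm (Fin 4)) :=
    { carrier := {g | g * (r * r) = (r * r) * g}
      one_mem' := by simp
      mul_mem' := fun {a b} ha hb => by
        show a * b * (r * r) = r * r * (a * b)
        rw [mul_assoc, show b * (r * r) = r * r * b from hb, ← mul_assoc,
          show a * (r * r) = r * r * a from ha, mul_assoc]
      inv_mem' := fun {a} ha => (show Commute a (r * r) from ha).inv_left } with hD
  have hD8 : Nat.card D = 8 := by
    rw [show Nat.card D = Nat.card {g : Equiv.Perm (Fin 4) // g * (r * r) = r * r * g} from rfl,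
      Nat.card_eq_fintype_card]
    decide +kernel
  obtain ⟨P, hP⟩ := (IsPGroup.of_card (p := 2) (n := 3) (G := D) (by rw [hD8]; rfl)).exists_le_sylow
  obtain ⟨Q⟩ : Nonempty (Sylow 2 K) := inferInstance
  obtain ⟨g, hg⟩ := MulAction.exists_smul_eq (Equiv.Perm (Fin 4)) (Q.mapSurjective hf) P
  have hcomm : ∀ a ∈ (P : Subgroup (Equiv.Perm (Fin 4))), ∀ b ∈ (P : Subgroup (Equiv.Perm (Fin 4))),
      a * b = b * a := by
    intro a ha b hb
    rw [← hg] at ha hb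
    obtain ⟨a', ha', rfl⟩ := ha
    obtain ⟨b', hb', rfl⟩ := hb
    rw [Sylow.coe_mapSurjective] at ha' hb'
    obtain ⟨a'', ha'', rfl⟩ := ha'
    obtain ⟨b'', hb'', rfl⟩ := hb'
    show MulAut.conj g (f a'') * MulAut.conj g (f b'') = MulAut.conj g (f b'') * MulAut.conj g (f a'')
    simp only [← map_mul]
    exact congrArg _ (congrArg f ((h.subgroup K).commute_of_mem Q.2 ha'' hb'').eq)
  have hr : r ∈ D := (mul_assoc r r r).symm
  have hw : w ∈ D := by
    show w * (r * r) = r * r * w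
    simp only [w, r]
    decide +kernel
  have := hcomm r (hP hr) w (hP hw)
  exact absurd this (by simp only [w, r]; decide +kernel)

/-- Groups with a rank one frame in characteristic two are `S₄`-free. -/
theorem noFour_of_frame [Finite G] (Fr : CfsgLib.Perm.BinaryOneClass.Frame G) :
    ¬ Cfsg.Involves (Equiv.Perm (Fin 4)) G := by
  haveI : Fact (Nat.Prime 2) := ⟨Nat.prime_two⟩
  haveI : Fact (Nat.Prime 3) := ⟨Nat.prime_three⟩
  let S : Sylow 2 G := Fr.isP.toSylow Fr.index_odd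
  have hSM : ∀ s ∈ Fr.S, s ∈ Fr.M := fun s hs =>
    (Fr.mem_M s).2 ⟨s, hs, 1, one_mem _, (mul_one s).symm⟩
  have hMS : ∀ m ∈ Fr.M, ∀ s ∈ Fr.S, m * s * m⁻¹ ∈ Fr.S := by
    intro m hm s hs
    obtain ⟨a, ha, d, hd, rfl⟩ := (Fr.mem_M m).1 hm
    rw [show a * d * s * (a * d)⁻¹ = a * (d * s * d⁻¹) * a⁻¹ by group]
    exact mul_mem (mul_mem ha (Fr.conj_S d hd s hs)) (inv_mem ha)
  have hTI : ∀ g u : G, u ∈ Fr.S → u ≠ 1 → g * u * g⁻¹ ∈ Fr.S → g ∈ Fr.M := by
    intro g u hu hu1 hgu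
    by_contra hg
    obtain ⟨s, hs, m, hm, rfl⟩ := Fr.cover g hg
    have hy := hMS m hm u hu
    have h1 : Fr.w * (m * u * m⁻¹) * Fr.w⁻¹ ∈ Fr.S := by
      have := mul_mem (mul_mem (inv_mem hs) hgu) hs
      rwa [show s⁻¹ * (s * Fr.w * m * u * (s * Fr.w * m)⁻¹) * s =
        Fr.w * (m * u * m⁻¹) * Fr.w⁻¹ by group] at this
    have h2 : Fr.w * (m * u * m⁻¹) * Fr.w⁻¹ ∈ Fr.D := Fr.inter _ (hSM _ h1) (by
      rw [show Fr.w⁻¹ * (Fr.w * (m * u * m⁻¹) * Fr.w⁻¹) * Fr.w = m * u * m⁻¹ by group]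
      exact hSM _ hy)
    obtain ⟨k, hk⟩ := IsPGroup.iff_card.1 Fr.isP
    have h3 := Nat.eq_one_of_dvd_coprimes (Nat.Coprime.pow_left k (Nat.coprime_two_left.2 Fr.odd_D))
      (hk ▸ Subgroup.orderOf_dvd_natCard _ h1) (Subgroup.orderOf_dvd_natCard _ h2)
    rw [orderOf_eq_one_iff] at h3
    apply hu1
    calc u = m⁻¹ * Fr.w⁻¹ * (Fr.w * (m * u * m⁻¹) * Fr.w⁻¹) * Fr.w * m := by group
      _ = 1 := by rw [h3]; group
  intro hi
  obtain ⟨T, hT, h3⟩ := (Cfsg.Agent.S2759.result (G := G)).1 hi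
  have hT1 : T ≠ ⊥ := by
    rintro rfl
    obtain ⟨x, y, -, hy, -⟩ := inverted_of_three h3
    haveI : Subsingleton (↥(normalizer ((⊥ : Subgroup G) : Set G)) ⧸
        (centralizer ((⊥ : Subgroup G) : Set G)).subgroupOf (normalizer ((⊥ : Subgroup G) : Set G))) := by
      rw [subgroupOf_eq_top.2 (fun z _ => mem_centralizer_iff.2 fun b hb => by
        rw [mem_bot.1 hb, one_mul, mul_one])]
      exact QuotientGroup.subsingleton_quotient_top
    rw [Subsingleton.elim y 1, orderOf_one] at hy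
    norm_num at hy
  obtain ⟨e⟩ := Cfsg.Agent.S2759.perm_three_equiv
  obtain ⟨K, f, hf⟩ := exists_surjective (Cfsg.Agent.S2759.involves_congr e h3)
  let π := QuotientGroup.mk' ((centralizer (T : Set G)).subgroupOf (normalizer (T : Set G)))
  have hD : Cfsg.Involves (DihedralGroup 3) ↥(normalizer (T : Set G)) :=
    of_surjective (f.comp (π.subgroupComap K))
      (hf.comp (π.subgroupComap_surjective_of_surjective K (QuotientGroup.mk'_surjective _)))
  obtain ⟨x, y, hx, ⟨k, hk⟩, hy1, hxy⟩ :=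
    (Cfsg.Agent.S2758.result (G := ↥(normalizer (T : Set G))) (p := 3) (by norm_num)).2.1 hD
  obtain ⟨P, hP⟩ := hT.exists_le_sylow
  obtain ⟨g, hg⟩ := MulAction.exists_smul_eq G P S
  have hTS : ∀ u ∈ T, g * u * g⁻¹ ∈ Fr.S := fun u hu => by
    show g * u * g⁻¹ ∈ (S : Subgroup G)
    rw [← hg]
    exact ⟨u, hP hu, rfl⟩
  have hM : ∀ a : ↥(normalizer (T : Set G)), g * a * g⁻¹ ∈ Fr.M := by
    intro a
    obtain ⟨u, hu, hu1⟩ := T.bot_or_exists_ne_one.resolve_left hT1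
    refine hTI _ (g * u * g⁻¹) (hTS u hu) (fun h => hu1 (conj_eq_one_iff.1 h)) ?_
    rw [show g * (a : G) * g⁻¹ * (g * u * g⁻¹) * (g * (a : G) * g⁻¹)⁻¹ =
      g * ((a : G) * u * (a : G)⁻¹) * g⁻¹ by group]
    exact hTS _ ((mem_normalizer_iff.1 a.2 u).1 hu)
  set x' := g * (x : G) * g⁻¹ with hx'
  set y' := g * (y : G) * g⁻¹ with hy'
  have hxS : x' ∈ Fr.S := by
    have hn : zpowers x' ≤ normalizer (Fr.S : Set G) := zpowers_le.2
      (mem_normalizer_fintype fun s hs => hMS _ (hM x) s hs)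
    obtain ⟨j, hj⟩ := hx
    have hp : IsPGroup 2 (zpowers x') := IsPGroup.of_card (n := j) (by
      rw [Nat.card_zpowers, hx', show g * (x : G) * g⁻¹ = MulAut.conj g (x : G) from rfl,
        MulEquiv.orderOf_eq, Subgroup.orderOf_coe, hj])
    have h2 := S.is_maximal' (hp.to_sup_of_normal_right' Fr.isP hn) le_sup_right
    show x' ∈ (S : Subgroup G)
    rw [← h2]
    exact mem_sup_left (mem_zpowers x')
  have hxy' : x' * y' * x'⁻¹ = y'⁻¹ := by
    have := congrArg (fun z => g * (Subtype.val z) * g⁻¹) hxy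
    simp only [Subgroup.coe_mul, Subgroup.coe_inv] at this
    rw [hx', hy']
    calc _ = g * ((x : G) * y * (x : G)⁻¹) * g⁻¹ := by group
      _ = _ := by rw [this]; group
  have hsq : y'⁻¹ * y'⁻¹ ∈ Fr.S := by
    have h1 : x' * (y' * x'⁻¹ * y'⁻¹) ∈ Fr.S := mul_mem hxS (hMS _ (hM y) _ (inv_mem hxS))
    rwa [show x' * (y' * x'⁻¹ * y'⁻¹) = x' * y' * x'⁻¹ * y'⁻¹ by group, hxy'] at h1
  obtain ⟨l, hl⟩ := IsPGroup.iff_card.1 Fr.isP
  have h4 : orderOf (y'⁻¹ * y'⁻¹) ∣ 3 ^ k := by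
    rw [← pow_two]
    refine orderOf_pow_dvd 2 |>.trans ?_
    rw [orderOf_inv, hy', show g * (y : G) * g⁻¹ = MulAut.conj g (y : G) from rfl,
      MulEquiv.orderOf_eq, Subgroup.orderOf_coe, hk]
  have h5 := orderOf_eq_one_iff.1 (Nat.eq_one_of_dvd_coprimes
    (Nat.Coprime.pow l k (by norm_num)) (hl ▸ Subgroup.orderOf_dvd_natCard _ hsq) h4)
  have h6 : y ^ 2 = 1 := Subtype.ext (by
    rw [hy', ← mul_inv_rev, inv_eq_one] at h5
    rw [SubgroupClass.coe_pow, pow_two]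
    calc (y : G) * y = g⁻¹ * (g * (y : G) * g⁻¹ * (g * (y : G) * g⁻¹)) * g := by group
      _ = _ := by rw [h5]; simp)
  have h7 := Nat.eq_one_of_dvd_coprimes (Nat.Coprime.pow_left k (by norm_num : Nat.Coprime 3 2))
    (hk ▸ dvd_refl _) (orderOf_dvd_of_pow_eq_one h6)
  exact hy1 (orderOf_eq_one_iff.1 h7)

end CfsgLib.LocalEven.GoldschmidtFree
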