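import Cfsg.Agent.Lib.LocalEven.GoldschmidtFree.PSL
import Cfsg.Agent.Lib.Perm.BinaryOneClass.ModelSL2
import Cfsg.Agent.Lib.Perm.BinaryOneClass.ModelU3
import Cfsg.Agent.Lib.Perm.BinaryOneClass.ModelSz
import Cfsg.Agent.Lib.Perm.BinaryOneClass.Main
import Cfsg.Agent.Lib.KGroups.AbelianTwo.Linear
import Cfsg.Agent.Lib.KGroups.AbelianTwo.SLTwo
import Cfsg.Agent.Lib.KnownB.SuzukiSubgroups
import Cfsg.Agent.Lib.LocalEven.TwoFactor.Known
import Cfsg.Agent.Lib.KnownA.J1Facts

/-!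
# The models in the list of Goldschmidt groups
-/

set_option autoImplicit false
set_option linter.style.haveILetI false

namespace CfsgLib.LocalEven.GoldschmidtFree

open Cfsg CfsgLib.KGroups.AbelianTwo Subgroup Matrix
open scoped MatrixGroups

universe u

theorem abTwo_of_four {G : Type u} [Group G] [Finite G] (h4 : 4 ∣ Nat.card G) (h8 : ¬ 8 ∣ Nat.card G) :
    AbTwo G := by
  haveI : Fact (Nat.Prime 2) := ⟨Nat.prime_two⟩
  intro S
  have hc : Nat.card (S : Subgroup G) = 2 ^ 2 := by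
    rw [Sylow.card_eq_multiplicity]
    congr 1
    have h1 := Nat.Prime.pow_dvd_iff_le_factorization (k := 2) Nat.prime_two (Nat.card_pos (α := G)).ne'
    have h2 := Nat.Prime.pow_dvd_iff_le_factorization (k := 3) Nat.prime_two (Nat.card_pos (α := G)).ne'
    have := h1.1 h4
    have : ¬ 3 ≤ (Nat.card G).factorization 2 := fun h => h8 (h2.2 h)
    omega
  exact IsPGroup.isMulCommutative_of_card_eq_prime_sq hc

/-- `PSL₂(2ⁿ)`. -/
theorem psl2_even {F : Type} [Field F] [Fintype F] {n : ℕ} (hn : 3 ≤ n) (hF : Fintype.card F = 2 ^ n) :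
    ¬ Involves (Equiv.Perm (Fin 4)) (ProjectiveSpecialLinearGroup (Fin 2) F) ∧
      Involves (Equiv.Perm (Fin 3)) (ProjectiveSpecialLinearGroup (Fin 2) F) := by
  classical
  haveI := CfsgLib.Perm.BinaryOneClass.charP_two hF
  have h4 : 4 ≤ Fintype.card F :=
    hF ▸ (show 2 ^ 2 ≤ 2 ^ n from Nat.pow_le_pow_right two_pos (by omega))
  have h2 : (2 : F) = 0 := CharTwo.two_eq_zero
  refine ⟨fun h => ?_, psl2_three (fun h3 => one_ne_zero (α := F) (by linear_combination h3 - h2))⟩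
  have hbij : Function.Bijective (QuotientGroup.mk' (Subgroup.center SL(2, F))) := by
    refine ⟨(injective_iff_map_eq_one _).2 fun x hx => ?_, QuotientGroup.mk'_surjective _⟩
    have := (QuotientGroup.eq_one_iff x).1 hx
    rwa [center_sl2_char_two, Subgroup.mem_bot] at this
  exact noFour_of_frame (CfsgLib.Perm.BinaryOneClass.SL2Model.frame h4)
    (involves_trans (MulEquiv.ofBijective _ hbij).symm h)

/-- `PSU₃(2ⁿ)`. -/
theorem psu3_even {F : Type} [Field F] [Fintype F] {n : ℕ} (hn : 2 ≤ n) (hF : Fintype.card F = 4 ^ n) :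
    ¬ Involves (Equiv.Perm (Fin 4)) (Cfsg.PSU 3 F (2 ^ n)) ∧
      Involves (Equiv.Perm (Fin 3)) (Cfsg.PSU 3 F (2 ^ n)) := by
  classical
  have hF' : Fintype.card F = (2 ^ n) ^ 2 := by rw [hF, ← pow_mul, mul_comm, pow_mul]; rfl
  haveI := CfsgLib.Perm.BinaryOneClass.charP_two (n := n * 2) (by rw [hF', pow_mul] : Fintype.card F = _)
  haveI : Fact (Fintype.card F = (2 ^ n) ^ 2) := ⟨hF'⟩
  constructor
  · intro h
    obtain ⟨σ, hσ, hc⟩ := CfsgLib.Classical.exists_frob hF'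
    have C : CfsgLib.KnownA.MinIndexU3.U3 (CfsgLib.Classical.stdHerm σ 3) (2 ^ n) :=
      ⟨CfsgLib.Classical.stdHerm_isHermitian hc 3, CfsgLib.Classical.stdHerm_sepRight 3,
        Module.finrank_fin_fun F, hF', hσ⟩
    obtain ⟨f, -⟩ := CfsgLib.KnownA.MinIndexU3.exists_frame C
    have hq : 4 ≤ 2 ^ n := Nat.pow_le_pow_right two_pos hn
    let e := CfsgLib.KnownC.AutPSU.pgEquiv (n := 3) hσ
    haveI := Finite.of_equiv _ e.toEquiv
    exact noFour_of_frame (CfsgLib.Perm.BinaryOneClass.U3Model.frame C f hq) (involves_trans e h)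
  · let P : Equiv.Perm (Fin 3) → Cfsg.SU 3 F (2 ^ n) := fun σ =>
      ⟨⟨σ.permMatrix F, permMatrix_sign σ⟩, permMatrix_mem hF' σ⟩
    have hmul : ∀ σ τ, P (σ * τ) = P τ * P σ := fun σ τ =>
      Subtype.ext (Subtype.ext (Matrix.permMatrix_mul σ τ))
    have hone : P 1 = 1 := Subtype.ext (Subtype.ext (by
      show (1 : Equiv.Perm (Fin 3)).permMatrix F = 1
      simp))
    let y₀ : Equiv.Perm (Fin 3) := finRotate 3
    let x₀ : Equiv.Perm (Fin 3) := Equiv.swap 0 1
    let π := QuotientGroup.mk' (Subgroup.center (Cfsg.SU 3 F (2 ^ n)))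
    have hx2 : P x₀ * P x₀ = 1 := by rw [← hmul, show x₀ * x₀ = 1 by decide, hone]
    have hy3 : P y₀ * P y₀ * P y₀ = 1 := by
      rw [← hmul, ← hmul, show y₀ * (y₀ * y₀) = 1 by decide, hone]
    have hxy : P x₀ * P y₀ * P x₀ * P y₀ = 1 := by
      rw [← hmul, ← hmul, ← hmul, show y₀ * (x₀ * (y₀ * x₀)) = 1 by decide, hone]
    refine three_of_inverted' (x := π (P x₀)) (y := π (P y₀))
      (by rw [pow_two, ← map_mul, hx2, map_one])
      (by rw [pow_succ, pow_two, ← map_mul, ← map_mul, hy3, map_one]) (fun h => ?_) ?_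
    · have hc := Subgroup.mem_center_iff.1 ((QuotientGroup.eq_one_iff _).1 h) (P x₀)
      rw [← hmul, ← hmul] at hc
      have := congrArg (fun g : Cfsg.SU 3 F (2 ^ n) => ((g : SpecialLinearGroup (Fin 3) F) : Matrix (Fin 3) (Fin 3) F) 0 2) hc
      simp [P, Equiv.Perm.permMatrix, PEquiv.toMatrix_apply, x₀, y₀, Equiv.swap_apply_def] at this
    · rw [inv_eq_of_mul_eq_one_right (show π (P x₀) * π (P x₀) = 1 by rw [← map_mul, hx2, map_one])]
      exact eq_inv_of_mul_eq_one_left (by rw [← map_mul, ← map_mul, ← map_mul, hxy, map_one])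

/-- The Suzuki groups. -/
theorem suzuki {F : Type} [Field F] [Fintype F] {m : ℕ} (hm : 1 ≤ m)
    (hF : Fintype.card F = 2 ^ (2 * m + 1)) :
    ¬ Involves (Equiv.Perm (Fin 4)) (Cfsg.Lie.Sz F (2 ^ (m + 1))) ∧
      ¬ Involves (Equiv.Perm (Fin 3)) (Cfsg.Lie.Sz F (2 ^ (m + 1))) := by
  classical
  have he := CfsgLib.KnownB.SzElem.twist_of_card hF
  have hq := CfsgLib.KnownB.Suzuki.exists_unit_ne_one hm hF
  haveI : CharP F 2 := CfsgLib.Perm.BinaryOneClass.charP_two hF
  refine ⟨noFour_of_frame (CfsgLib.Perm.BinaryOneClass.SzModel.frame he hq), fun h => ?_⟩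
  obtain ⟨x, y, -, hy, -⟩ := inverted_of_three h
  exact CfsgLib.KnownB.Suzuki.not_three_dvd_card
    (CfsgLib.KnownB.Suzuki.params_of_card hm hF) (hy ▸ orderOf_dvd_natCard y)

/-- `PSL₂(q)`, `q ≡ 3, 5 (mod 8)`. -/
theorem psl2_three_five {F : Type} [Field F] [Fintype F] (h5 : 5 ≤ Fintype.card F)
    (hq : Fintype.card F % 8 = 3 ∨ Fintype.card F % 8 = 5) :
    AbTwo (ProjectiveSpecialLinearGroup (Fin 2) F) := by
  classical
  have ho : Odd (Fintype.card F) := Nat.odd_iff.2 (by omega)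
  have hc := card_psl2_odd (F := F) ho
  set q := Fintype.card F
  set N := Nat.card (ProjectiveSpecialLinearGroup (Fin 2) F)
  obtain ⟨j, hj⟩ : ∃ j, q = 8 * j + q % 8 := ⟨q / 8, by omega⟩
  refine abTwo_of_four ?_ ?_
  · rcases hq with h | h
    · rw [h] at hj
      exact ⟨(8 * j + 3) * ((4 * j + 1) * (2 * j + 1)), by
        have e : 2 * N = 2 * (4 * ((8 * j + 3) * ((4 * j + 1) * (2 * j + 1)))) := by
          rw [hc, hj, show 8 * j + 3 - 1 = 2 * (4 * j + 1) by omega]; ring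
        omega⟩
    · rw [h] at hj
      exact ⟨(8 * j + 5) * ((2 * j + 1) * (4 * j + 3)), by
        have e : 2 * N = 2 * (4 * ((8 * j + 5) * ((2 * j + 1) * (4 * j + 3)))) := by
          rw [hc, hj, show 8 * j + 5 - 1 = 4 * (2 * j + 1) by omega]; ring
        omega⟩
  · rintro ⟨k, hk⟩
    rcases hq with h | h <;> rw [h] at hj
    · have e : 2 * N = 2 * (4 * ((8 * j + 3) * ((4 * j + 1) * (2 * j + 1)))) := by
        rw [hc, hj, show 8 * j + 3 - 1 = 2 * (4 * j + 1) by omega]; ring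
      have : Odd ((8 * j + 3) * ((4 * j + 1) * (2 * j + 1))) :=
        Odd.mul ⟨4 * j + 1, by ring⟩ (Odd.mul ⟨2 * j, by ring⟩ ⟨j, by ring⟩)
      obtain ⟨i, hi⟩ := this
      omega
    · have e : 2 * N = 2 * (4 * ((8 * j + 5) * ((2 * j + 1) * (4 * j + 3)))) := by
        rw [hc, hj, show 8 * j + 5 - 1 = 4 * (2 * j + 1) by omega]; ring
      have : Odd ((8 * j + 5) * ((2 * j + 1) * (4 * j + 3))) :=
        Odd.mul ⟨4 * j + 2, by ring⟩ (Odd.mul ⟨j, by ring⟩ ⟨2 * j + 1, by ring⟩)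
      obtain ⟨i, hi⟩ := this
      omega

/-- Janko's first group. -/
theorem janko_one :
    ¬ Involves (Equiv.Perm (Fin 4)) Cfsg.Spor.J1 ∧ Involves (Equiv.Perm (Fin 3)) Cfsg.Spor.J1 := by
  haveI := CfsgLib.SmallGroups.J1Order.finite_J1
  haveI : Fact (Nat.Prime 2) := ⟨Nat.prime_two⟩
  constructor
  · refine noFour_of_abTwo fun S => ?_
    obtain ⟨⟨ha, -⟩, -, g, B, C, hB, hC, -, hAB, hAC, hBC, hB1, hC1, hn1, hn2, hn3, hn4⟩ :=
      CfsgLib.KnownA.J1Facts.facts
    set A := CfsgLib.SmallGroups.J1Order.elt CfsgLib.KnownA.J1Facts.wT with hA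
    have hb : B * B = 1 := by rw [hB]; calc _ = g * (A * A) * g⁻¹ := by group
                                          _ = 1 := by rw [ha]; group
    have hc : C * C = 1 := by rw [hC]; calc _ = g * (B * B) * g⁻¹ := by group
                                          _ = 1 := by rw [hb]; group
    have hA1 : A ≠ 1 := fun h => by
      apply hB1; rw [hB, h]; group
    let M := Multiplicative (ZMod 2)
    let hom : ∀ (x : Cfsg.Spor.J1), x * x = 1 → M →* Cfsg.Spor.J1 := CfsgLib.KnownA.J1Facts.twoHom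
    let φ₁ : M × M →* Cfsg.Spor.J1 := (hom A ha).noncommCoprod (hom B hb) (fun i j => by
      rcases CfsgLib.KnownA.J1Facts.zmod_two_cases i with rfl | rfl <;>
        rcases CfsgLib.KnownA.J1Facts.zmod_two_cases j with rfl | rfl <;>
        simp [hom, CfsgLib.KnownA.J1Facts.twoHom, hAB])
    let φ : (M × M) × M →* Cfsg.Spor.J1 := φ₁.noncommCoprod (hom C hc) (fun p j => by
      obtain ⟨i, k⟩ := p
      rcases CfsgLib.KnownA.J1Facts.zmod_two_cases i with rfl | rfl <;>
        rcases CfsgLib.KnownA.J1Facts.zmod_two_cases k with rfl | rfl <;>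
        rcases CfsgLib.KnownA.J1Facts.zmod_two_cases j with rfl | rfl <;>
        simp [φ₁, hom, CfsgLib.KnownA.J1Facts.twoHom, hAC, hBC, hAC.mul_left hBC])
    have hφ : Function.Injective φ := by
      rw [injective_iff_map_eq_one]
      rintro ⟨⟨i, k⟩, j⟩ h
      rcases CfsgLib.KnownA.J1Facts.zmod_two_cases i with rfl | rfl <;>
        rcases CfsgLib.KnownA.J1Facts.zmod_two_cases k with rfl | rfl <;>
        rcases CfsgLib.KnownA.J1Facts.zmod_two_cases j with rfl | rfl <;>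
        first
          | rfl
          | (exfalso; simp [φ, φ₁, hom, CfsgLib.KnownA.J1Facts.twoHom, hA1, hB1, hC1, hn1, hn2, hn3, hn4] at h)
    have hE : Nat.card φ.range = 2 ^ 3 := by
      rw [← Nat.card_congr (MonoidHom.ofInjective hφ).toEquiv, Nat.card_prod, Nat.card_prod,
        Nat.card_eq_fintype_card]
      rfl
    obtain ⟨P, hP⟩ := (IsPGroup.of_card hE).exists_le_sylow
    have hPc : Nat.card (P : Subgroup Cfsg.Spor.J1) = 2 ^ 3 := by
      obtain ⟨k, hk⟩ := IsPGroup.iff_card.1 P.2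
      have h1 := Subgroup.card_subgroup_dvd_card (P : Subgroup Cfsg.Spor.J1)
      rw [CfsgLib.KnownA.J1Facts.card_J1, hk] at h1
      have h2 : 2 ^ 3 ≤ Nat.card (P : Subgroup Cfsg.Spor.J1) := hE ▸ Subgroup.card_le_of_le hP
      rw [hk] at h2 ⊢
      have h3 : k ≤ 3 := by
        by_contra h
        exact absurd ((pow_dvd_pow 2 (show 4 ≤ k by omega)).trans h1) (by norm_num)
      have := (Nat.pow_le_pow_iff_right (le_refl 2)).1 h2
      rw [show k = 3 by omega]
    have heq : φ.range = (P : Subgroup Cfsg.Spor.J1) :=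
      Subgroup.eq_of_le_of_card_ge hP (by rw [hPc, hE])
    obtain ⟨z, hz⟩ := MulAction.exists_smul_eq Cfsg.Spor.J1 P S
    refine ⟨⟨fun a b => Subtype.ext ?_⟩⟩
    obtain ⟨a, ha'⟩ := a
    obtain ⟨b, hb'⟩ := b
    rw [← hz] at ha' hb'
    obtain ⟨a', ha'', rfl⟩ := ha'
    obtain ⟨b', hb'', rfl⟩ := hb'
    rw [SetLike.mem_coe, ← heq] at ha'' hb''
    obtain ⟨p, rfl⟩ := ha''
    obtain ⟨r, rfl⟩ := hb''
    show MulAut.conj z (φ p) * MulAut.conj z (φ r) = MulAut.conj z (φ r) * MulAut.conj z (φ p)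
    simp only [← map_mul, mul_comm p r]
  · obtain ⟨t, -, ⟨e⟩⟩ := CfsgLib.KnownA.J1Facts.involution_centralizer
    let f : alternatingGroup (Fin 5) →* Cfsg.Spor.J1 :=
      (Subgroup.centralizer ({t} : Set Cfsg.Spor.J1)).subtype.comp
        (e.symm.toMonoidHom.comp (MonoidHom.inr _ _))
    refine CfsgLib.Fsys.involves_of_injective (e := f) ((Subgroup.subtype_injective _).comp
      (e.symm.injective.comp fun _ _ h => congrArg Prod.snd h)) ?_
    exact three_of_inverted'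
      (x := ⟨Equiv.swap 0 1 * Equiv.swap 3 4, Equiv.Perm.mem_alternatingGroup.2 (by decide +kernel)⟩)
      (y := ⟨Equiv.swap 0 1 * Equiv.swap 1 2, Equiv.Perm.mem_alternatingGroup.2 (by decide +kernel)⟩)
      (by decide +kernel) (by decide +kernel) (by decide +kernel) (by decide +kernel)

end CfsgLib.LocalEven.GoldschmidtFree
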