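import Cfsg.Agent.Lib.LocalEven.GoldschmidtFree.Basic
import Cfsg.Agent.Lib.Classical.SL2Fours
import Mathlib.FieldTheory.Finite.Basic
import Mathlib.LinearAlgebra.Matrix.ProjectiveSpecialLinearGroup

/-!
# Elements of order three of `PSL₂(F)`

In characteristic `≠ 3` some element of order three is inverted by an involution; in characteristic
three with `-1` a non-square none is inverted, and the centraliser of one has exponent three.
-/

set_option autoImplicit false
set_option linter.style.haveILetI false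

namespace CfsgLib.LocalEven.GoldschmidtFree

open Matrix

universe u

variable {F : Type u} [Field F]

local notation "SL2F" => Matrix.SpecialLinearGroup (Fin 2) F
local notation "PSL2F" => Matrix.ProjectiveSpecialLinearGroup (Fin 2) F
local notation "M2F" => Matrix (Fin 2) (Fin 2) F

theorem exists_quadratic [Fintype F] (h3 : (3 : F) ≠ 0) : ∃ a b : F, a * a - a * b + b * b = -1 := by
  by_cases h2 : (2 : F) = 0
  · exact ⟨1, 0, by linear_combination h2⟩
  · have hcard : Fintype.card F % 2 = 1 := by
      rcases Nat.mod_two_eq_zero_or_one (Fintype.card F) with h | h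
      · exfalso
        obtain ⟨p, hp⟩ := CharP.exists F
        haveI := hp
        obtain ⟨k, hpp, hk⟩ := FiniteField.card F p
        have hp2 : 2 = p := (Nat.prime_dvd_prime_iff_eq Nat.prime_two hpp).1
          (Nat.prime_two.dvd_of_dvd_pow (hk ▸ Nat.dvd_of_mod_eq_zero h))
        subst hp2
        exact h2 (by exact_mod_cast CharP.cast_eq_zero F 2)
      · exact h
    obtain ⟨u, v, huv⟩ := FiniteField.exists_root_sum_quadratic (R := F)
      (f := Polynomial.X ^ 2 + Polynomial.C 4) (g := Polynomial.C 3 * Polynomial.X ^ 2)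
      (Polynomial.degree_X_pow_add_C (by norm_num) _) (Polynomial.degree_C_mul_X_pow 2 h3) hcard
    simp only [Polynomial.eval_add, Polynomial.eval_pow, Polynomial.eval_X, Polynomial.eval_C,
      Polynomial.eval_mul] at huv
    refine ⟨(u + v) / 2, v, ?_⟩
    field_simp
    linear_combination huv

/-- In characteristic different from three `PSL₂(F)` involves `S₃`. -/
theorem psl2_three [Fintype F] (h3 : (3 : F) ≠ 0) : Cfsg.Involves (Equiv.Perm (Fin 3)) PSL2F := by
  obtain ⟨a, b, hab⟩ := exists_quadratic h3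
  let Y : SL2F := ⟨!![0, -1; 1, 1], by simp [Matrix.det_fin_two_of]⟩
  let X : SL2F := ⟨!![a, b; b - a, -a], by
    rw [Matrix.det_fin_two_of]; linear_combination -hab⟩
  have hY3 : (Y * Y * Y : SL2F) = -1 := by
    refine Subtype.ext ?_
    show !![(0 : F), -1; 1, 1] * !![0, -1; 1, 1] * !![0, -1; 1, 1] = -(1 : M2F)
    ext i j; fin_cases i <;> fin_cases j <;> simp [Matrix.mul_apply, Fin.sum_univ_two]
  have hX2 : (X * X : SL2F) = -1 := by
    refine Subtype.ext ?_
    show !![a, b; b - a, -a] * !![a, b; b - a, -a] = -(1 : M2F)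
    ext i j
    fin_cases i <;> fin_cases j <;> simp [Matrix.mul_apply, Fin.sum_univ_two] <;>
      first | ring1 | linear_combination hab | linear_combination -hab
  have hXY : (X * Y * X * Y : SL2F) = -1 := by
    refine Subtype.ext ?_
    show !![a, b; b - a, -a] * !![0, -1; 1, 1] * !![a, b; b - a, -a] * !![0, -1; 1, 1] = -(1 : M2F)
    ext i j
    fin_cases i <;> fin_cases j <;> simp [Matrix.mul_apply, Fin.sum_univ_two] <;>
      first | ring1 | linear_combination hab | linear_combination -hab
  have hneg : (-1 : SL2F) ∈ Subgroup.center SL2F :=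
    Subgroup.mem_center_iff.2 fun g => by simp
  let π := QuotientGroup.mk' (Subgroup.center SL2F)
  have hπ : π (-1) = 1 := (QuotientGroup.eq_one_iff _).2 hneg
  have hy1 : π Y ≠ 1 := fun h => by
    rcases CfsgLib.Classical.sl2_center_eq ((QuotientGroup.eq_one_iff Y).1 h) with e | e
    · have := congrArg (fun g : SL2F => (g : M2F) 1 0) e
      simp [Y] at this
    · have := congrArg (fun g : SL2F => (g : M2F) 1 0) e
      simp [Y] at this
  have hx : π X * π X = 1 := by rw [← map_mul, hX2, hπ]
  have hxy : π X * π Y * π X * π Y = 1 := by rw [← map_mul, ← map_mul, ← map_mul, hXY, hπ]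
  refine three_of_inverted' (x := π X) (y := π Y) (by rw [pow_two]; exact hx)
    (by rw [pow_succ, pow_two, ← map_mul, ← map_mul, hY3, hπ]) hy1 ?_
  rw [inv_eq_of_mul_eq_one_right hx]
  exact eq_inv_of_mul_eq_one_left hxy

/-- An element of `PSL₂(3^odd)` normalising the group of an element of order three has cube one and
centralises it. -/
theorem psl2_char_three [Fintype F] (h3 : (3 : F) = 0) (hn : ¬ IsSquare (-1 : F)) {x y : PSL2F} (hy : y ^ 3 = 1)
    (hy1 : y ≠ 1) :
    x * y * x⁻¹ ≠ y⁻¹ ∧ (x * y * x⁻¹ = y → x ^ 3 = 1) := by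
  obtain ⟨Y₀, rfl⟩ := QuotientGroup.mk'_surjective (Subgroup.center SL2F) y
  obtain ⟨X, rfl⟩ := QuotientGroup.mk'_surjective (Subgroup.center SL2F) x
  have hneg : (-1 : SL2F) ∈ Subgroup.center SL2F :=
    Subgroup.mem_center_iff.2 fun g => by simp
  set π := QuotientGroup.mk' (Subgroup.center SL2F)
  have hπn : ∀ g : SL2F, π (-g) = π g := fun g => by
    rw [← neg_one_mul g, map_mul, show π (-1) = 1 from (QuotientGroup.eq_one_iff _).2 hneg, one_mul]
  have hπ : ∀ g h : SL2F, π g = π h → g = h ∨ g = -h := fun g h e => by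
    have e' : π (g * h⁻¹) = 1 := by rw [map_mul, map_inv, e, mul_inv_cancel]
    rcases CfsgLib.Classical.sl2_center_eq ((QuotientGroup.eq_one_iff _).1 e') with e'' | e''
    · exact Or.inl (mul_inv_eq_one.1 e'')
    · exact Or.inr (by rw [← neg_one_mul h, ← e'', inv_mul_cancel_right])
  obtain ⟨Y, hY, hπY⟩ : ∃ Y : SL2F, Y ^ 3 = 1 ∧ π Y = π Y₀ := by
    have e : π (Y₀ ^ 3) = π 1 := by rw [map_pow, map_one]; exact hy
    rcases hπ _ _ e with e' | e'
    · exact ⟨Y₀, e', rfl⟩
    · exact ⟨-Y₀, by rw [Odd.neg_pow (by decide), e', neg_neg], hπn Y₀⟩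
  rw [← hπY] at hy1 ⊢
  set M : M2F := (Y : M2F) with hM
  have hMd : M.det = 1 := Y.2
  rw [Matrix.det_fin_two] at hMd
  have hM3 : M * M * M = 1 := by
    have := congrArg (fun g : SL2F => (g : M2F)) hY
    simpa [pow_succ, pow_zero] using this
  have htr : M 0 0 + M 1 1 = 2 := by
    have e00 := congr_fun (congr_fun hM3 0) 0
    have e11 := congr_fun (congr_fun hM3 1) 1
    simp [Matrix.mul_apply, Fin.sum_univ_two] at e00 e11
    have h : (M 0 0 + M 1 1 - 2) ^ 3 = 0 := by
      linear_combination e00 + e11 - ((M 0 0 + M 1 1) * (-3) ) * hMd +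
        (-(2 : F) * (M 0 0 + M 1 1) ^ 2 + 5 * (M 0 0 + M 1 1) - 2) * h3
    exact sub_eq_zero.1 (pow_eq_zero_iff (by norm_num) |>.1 h)
  set α := M 0 0 - 1 with hα
  set β := M 0 1 with hβ
  set γ := M 1 0 with hγ
  have hd : M 1 1 = 1 - α := by linear_combination htr
  have h00 : M 0 0 = 1 + α := by rw [hα]; ring
  have hdet : α * α + β * γ = 0 := by
    rw [h00, hd] at hMd; linear_combination -hMd
  have hne : ¬ (α = 0 ∧ β = 0 ∧ γ = 0) := by
    rintro ⟨a0, b0, c0⟩
    refine hy1 ?_
    rw [show Y = 1 from Subtype.ext ?_, map_one]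
    show M = 1
    ext i j
    fin_cases i <;> fin_cases j <;> simp [h00, hd, a0, ← hβ, ← hγ, b0, c0]
  set p := (X : M2F) 0 0
  set q := (X : M2F) 0 1
  set r := (X : M2F) 1 0
  set s := (X : M2F) 1 1
  have hXd : p * s - q * r = 1 := by
    have := X.2; rwa [Matrix.det_fin_two] at this
  have h11 : (1 : F) + 1 ≠ 0 := fun h => one_ne_zero (α := F) (by linear_combination h3 - h)
  have hinv : ((Y⁻¹ : SL2F) : M2F) = !![1 - α, -β; -γ, 1 + α] := by
    rw [Matrix.SpecialLinearGroup.coe_inv, Matrix.adjugate_fin_two, ← hM, ← hβ, ← hγ, h00, hd]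
  have hYv : (Y : M2F) = !![1 + α, β; γ, 1 - α] := by
    ext i j; fin_cases i <;> fin_cases j <;> simp [h00, hd, ← hM, ← hβ, ← hγ]
  have key : ∀ Z : SL2F, ((Z : M2F) 0 0 + (Z : M2F) 1 1 = 2) → π X * π Y * (π X)⁻¹ = π Z →
      X * Y = Z * X := by
    intro Z hZ e
    rw [← map_inv, ← map_mul, ← map_mul] at e
    rcases hπ _ _ e with e' | e'
    · rw [← e']; group
    · exfalso
      have t := congrArg (fun g : SL2F => Matrix.trace (g : M2F)) e'
      simp only [Matrix.SpecialLinearGroup.coe_neg, Matrix.trace_neg] at t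
      rw [Matrix.SpecialLinearGroup.coe_mul, Matrix.trace_mul_comm, ← Matrix.SpecialLinearGroup.coe_mul,
        ← mul_assoc, inv_mul_cancel, one_mul, ← hM, Matrix.trace_fin_two, Matrix.trace_fin_two,
        htr, hZ] at t
      exact h11 (mul_left_cancel₀ h11 (by linear_combination t))
  constructor
  · intro e
    rw [← map_inv π Y] at e
    have e2 := key _ (by simp [hinv]; linear_combination (0 : F) * h3) e
    have e2' := congrArg (fun g : SL2F => (g : M2F)) e2
    simp only [Matrix.SpecialLinearGroup.coe_mul, hinv, hYv] at e2'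
    have f00 := congr_fun (congr_fun e2' 0) 0
    have f01 := congr_fun (congr_fun e2' 0) 1
    have f10 := congr_fun (congr_fun e2' 1) 0
    have f11 := congr_fun (congr_fun e2' 1) 1
    simp [Matrix.mul_apply, Fin.sum_univ_two] at f00 f01 f10 f11
    have ca : α * (p + s) * (1 + 1) = 0 := by linear_combination f00 - f11
    have cb : β * (p + s) = 0 := by linear_combination f01
    have cc : γ * (p + s) = 0 := by linear_combination f10
    have hps : p + s = 0 := by
      by_contra hne'
      exact hne ⟨by simpa [hne', h11] using ca, by simpa [hne'] using cb, by simpa [hne'] using cc⟩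
    have hs : s = -p := by linear_combination hps
    have g00 : 2 * p * α + q * γ + r * β = 0 := by linear_combination f00
    by_cases hb : β = 0
    · have ha : α = 0 := by
        have : α * α = 0 := by linear_combination hdet - γ * hb
        exact mul_self_eq_zero.1 this
      have hq : q = 0 := by
        have : q * γ = 0 := by linear_combination g00 - (2 * p) * ha - r * hb
        exact (mul_eq_zero.1 this).resolve_right fun hc => hne ⟨ha, hb, hc⟩
      exact hn ⟨p, by linear_combination hXd - p * hs + r * hq⟩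
    · refine hn ⟨(p * β - q * α) / β, ?_⟩
      field_simp
      linear_combination β ^ 2 * hXd - p * β ^ 2 * hs + q * β * g00 - q ^ 2 * hdet
  · intro e
    have e2 := key Y htr e
    have e2' := congrArg (fun g : SL2F => (g : M2F)) e2
    simp only [Matrix.SpecialLinearGroup.coe_mul, hYv] at e2'
    have f00 := congr_fun (congr_fun e2' 0) 0
    have f01 := congr_fun (congr_fun e2' 0) 1
    have f10 := congr_fun (congr_fun e2' 1) 0
    simp [Matrix.mul_apply, Fin.sum_univ_two] at f00 f01 f10
    -- `tr² = 4 det`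
    have c1 : (p - s) * β = 2 * α * q := by linear_combination f01
    have c2 : (p - s) * γ = 2 * α * r := by linear_combination -f10
    have c3 : q * γ = r * β := by linear_combination f00
    have hdisc : (p - s) * (p - s) + 4 * (q * r) = 0 := by
      by_cases hb : β = 0
      · have ha : α = 0 := mul_self_eq_zero.1 (by linear_combination hdet - γ * hb)
        have hc : γ ≠ 0 := fun hc => hne ⟨ha, hb, hc⟩
        have hq : q = 0 := mul_right_cancel₀ hc (by linear_combination c3 + r * hb)
        have hp : p - s = 0 := mul_right_cancel₀ hc (by linear_combination c2 + 2 * r * ha)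
        linear_combination (p - s) * hp + 4 * r * hq
      · refine mul_right_cancel₀ (mul_ne_zero hb hb) ?_
        linear_combination ((p - s) * β + 2 * α * q) * c1 - 4 * q * β * c3 + 4 * q ^ 2 * hdet
    have htX : (p + s - 2) * (p + s + 2) = 0 := by linear_combination hdisc + 4 * hXd
    have cube : ∀ Z : SL2F, (Z : M2F) 0 0 + (Z : M2F) 1 1 = 2 → Z ^ 3 = 1 := by
      intro Z hZ
      have hZd : (Z : M2F) 0 0 * (Z : M2F) 1 1 - (Z : M2F) 0 1 * (Z : M2F) 1 0 = 1 := by
        have := Z.2; rwa [Matrix.det_fin_two] at this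
      refine Subtype.ext ?_
      rw [pow_succ, pow_two, Matrix.SpecialLinearGroup.coe_mul, Matrix.SpecialLinearGroup.coe_mul,
        Matrix.SpecialLinearGroup.coe_one]
      set a := (Z : M2F) 0 0 with ha
      set b := (Z : M2F) 0 1 with hb'
      set c := (Z : M2F) 1 0 with hc'
      set d := (Z : M2F) 1 1 with hd'
      have e1 : d = 2 - a := by linear_combination hZ
      rw [e1] at hZd
      have hbc : b * c = a * (2 - a) - 1 := by linear_combination -hZd
      ext i j
      fin_cases i <;> fin_cases j <;>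
        simp [Matrix.mul_apply, Fin.sum_univ_two, ← ha, ← hb', ← hc', ← hd', e1]
      · linear_combination (2 + a) * hbc + (a - 1) * h3
      · linear_combination b * hbc + b * h3
      · linear_combination c * hbc + c * h3
      · linear_combination (4 - a) * hbc + (1 - a) * h3
    rcases mul_eq_zero.1 htX with h | h
    · rw [← map_pow, cube X (by linear_combination h), map_one]
    · rw [← hπn X, ← map_pow, cube (-X) (by
        rw [Matrix.SpecialLinearGroup.coe_neg]; simp; linear_combination -h), map_one]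

theorem three_facts [Fintype F] {n : ℕ} (hF : Fintype.card F = 3 ^ (2 * n + 1)) :
    (3 : F) = 0 ∧ ¬ IsSquare (-1 : F) := by
  haveI : Fact (Nat.Prime 3) := ⟨Nat.prime_three⟩
  haveI : CharP F 3 := charP_of_card_eq_prime_pow hF
  refine ⟨by exact_mod_cast CharP.cast_eq_zero F 3, fun h => ?_⟩
  rw [FiniteField.isSquare_neg_one_iff, hF] at h
  apply h
  rw [pow_succ, pow_mul, Nat.mul_mod, Nat.pow_mod]
  norm_num

/-- `PSL₂(3^(2n+1))` does not involve `S₃`. -/
theorem psl2_noThree [Fintype F] {n : ℕ} (hF : Fintype.card F = 3 ^ (2 * n + 1)) :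
    ¬ Cfsg.Involves (Equiv.Perm (Fin 3)) PSL2F := by
  intro h
  obtain ⟨h3, hn⟩ := three_facts hF
  obtain ⟨x, y, -, hy, hxy⟩ := inverted_of_three h
  exact (psl2_char_three h3 hn (x := x) (y := y) (by rw [← hy, pow_orderOf_eq_one])
    (fun e => by rw [e, orderOf_one] at hy; norm_num at hy)).1 hxy

/-- A 2-element of `PSL₂(3^(2n+1))` normalising a nontrivial 3-subgroup is trivial. -/
theorem psl2_normalizing [Fintype F] {n : ℕ} (hF : Fintype.card F = 3 ^ (2 * n + 1))
    {P : Subgroup PSL2F} (hP : IsPGroup 3 P) (hP1 : P ≠ ⊥) {x : PSL2F} (hx : ∃ k, orderOf x = 2 ^ k)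
    (hn : x ∈ Subgroup.normalizer (P : Set PSL2F)) : x = 1 := by
  haveI : Fact (Nat.Prime 3) := ⟨Nat.prime_three⟩
  obtain ⟨h3, hnsq⟩ := three_facts hF
  have hc : x ∈ Subgroup.centralizer (P : Set PSL2F) := by
    by_contra hc
    obtain ⟨e⟩ := Cfsg.Agent.S2759.perm_three_equiv
    exact psl2_noThree hF (Cfsg.Agent.S2759.involves_congr e.symm
      ((Cfsg.Agent.S2758.result (p := 3) (by norm_num)).1.2 ⟨x, P, hx, hP, hn, hc⟩))
  haveI : Nontrivial P := (Subgroup.nontrivial_iff_ne_bot P).2 hP1
  obtain ⟨m, hm, hm'⟩ := hP.nontrivial_iff_card.1 inferInstance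
  obtain ⟨u, hu⟩ := exists_prime_orderOf_dvd_card' (G := P) 3 (hm' ▸ dvd_pow_self 3 hm.ne')
  have hu' : orderOf (u : PSL2F) = 3 := by rw [Subgroup.orderOf_coe, hu]
  have h := (psl2_char_three h3 hnsq (x := x) (y := (u : PSL2F)) (by rw [← hu', pow_orderOf_eq_one])
    (fun e => by rw [e, orderOf_one] at hu'; norm_num at hu')).2
    (by rw [← (Subgroup.mem_centralizer_iff.1 hc u u.2), mul_inv_cancel_right])
  obtain ⟨k, hk⟩ := hx
  exact orderOf_eq_one_iff.1 (Nat.eq_one_of_dvd_coprimes (Nat.Coprime.pow_left k (by norm_num : Nat.Coprime 2 3))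
    (hk ▸ dvd_refl _) (orderOf_dvd_of_pow_eq_one h))

end CfsgLib.LocalEven.GoldschmidtFree
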