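import Cfsg.Agent.Lib.LocalEven.GoldschmidtFree.PSL
import Cfsg.Agent.Lib.Involution.TwoTimesPSL.Transfer
import Cfsg.Agent.Lib.Recognition.ReeCentralizer.Small
import Cfsg.Agent.Lib.KGroups.AbelianTwo.SLTwo

/-!
# Groups of Ree type involve `S₃`

With `U` a Sylow 3-subgroup of `C(t) = ⟨t⟩ × L₂(q)`, the normaliser of `U` has Sylow 2-subgroups of
order two, so `t` normalises a 3-subgroup larger than `U` and does not centralise it.
-/

set_option autoImplicit false
set_option linter.style.haveILetI false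

namespace CfsgLib.LocalEven.GoldschmidtFree

open Subgroup

universe u

variable {G : Type u} [Group G] [Finite G]

theorem exists_centralizer_equiv {t : G} (ht : orderOf t = 2) {K : Subgroup G}
    (h : Cfsg.IsInternalDirectProduct (zpowers t) K (centralizer ({t} : Set G))) :
    Nonempty (centralizer ({t} : Set G) ≃* Multiplicative (ZMod 2) × K) := by
  obtain ⟨h1, h2, hc, hi, hs⟩ := h
  let a : Multiplicative (ZMod 2) ≃* zpowers t := mulEquivOfCyclicCardEq (by
    rw [Nat.card_zpowers, ht, Nat.card_eq_fintype_card]; rfl)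
  let f : Multiplicative (ZMod 2) →* G := (zpowers t).subtype.comp a.toMonoidHom
  let φ := f.noncommCoprod K.subtype fun i k => hc _ (a i).2 _ k.2
  have hφ : Function.Injective φ := by
    refine (injective_iff_map_eq_one _).2 fun p hp => ?_
    obtain ⟨i, k⟩ := p
    have hp' : ((a i : zpowers t) : G) * (k : G) = 1 := hp
    have hm : (k : G) ∈ zpowers t ⊓ K :=
      mem_inf.2 ⟨by rw [eq_inv_of_mul_eq_one_right hp']; exact (zpowers t).inv_mem (a i).2, k.2⟩
    rw [hi, mem_bot] at hm
    rw [hm, mul_one] at hp'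
    exact Prod.ext (a.injective ((Subtype.ext hp' : a i = 1).trans (map_one a).symm)) (Subtype.ext hm)
  have hr : φ.range = centralizer ({t} : Set G) := by
    show (f.noncommCoprod K.subtype _).range = _
    refine (MonoidHom.noncommCoprod_range f K.subtype _).trans ?_
    rw [range_subtype, ← hs]
    congr 1
    rw [MonoidHom.range_comp, MonoidHom.range_eq_top.2 a.surjective, ← MonoidHom.range_eq_map,
      range_subtype]
  exact ⟨((MonoidHom.ofInjective hφ).trans (MulEquiv.subgroupCongr hr)).symm⟩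

variable {F : Type*} [Field F] [Fintype F]

local notation "PSL" => Matrix.ProjectiveSpecialLinearGroup (Fin 2) F

theorem card_psl (ho : Odd (Fintype.card F)) :
    2 * Nat.card PSL = Fintype.card F * ((Fintype.card F - 1) * (Fintype.card F + 1)) := by
  classical
  have h2 : (2 : F) ≠ 0 := fun h2 => by
    haveI := CharTwo.of_one_ne_zero_of_two_eq_zero one_ne_zero h2
    obtain ⟨e, -, he⟩ := FiniteField.card F 2
    rw [he] at ho
    exact Nat.not_even_iff_odd.2 ho (Nat.even_pow.2 ⟨even_two, e.ne_zero⟩)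
  rw [CfsgLib.Classical.Quat.two_mul_card_psl h2, CfsgLib.Classical.card_sl2']

/-- If `3q` divides the order, some element of order three is inverted by a 2-element. -/
theorem ree_three {n : ℕ} (hF : Fintype.card F = 3 ^ (2 * n + 1)) {t : G} (ht : orderOf t = 2)
    (e : centralizer ({t} : Set G) ≃* Multiplicative (ZMod 2) × PSL)
    (hdvd : 3 ^ (2 * n + 2) ∣ Nat.card G) :
    Cfsg.Involves (Equiv.Perm (Fin 3)) G := by
  classical
  haveI : Fact (Nat.Prime 3) := ⟨Nat.prime_three⟩
  haveI : Fact (Nat.Prime 2) := ⟨Nat.prime_two⟩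
  set C := centralizer ({t} : Set G) with hC
  set N := 2 * n + 1 with hN
  have hcC : Nat.card C = 3 ^ N * ((3 ^ N - 1) * (3 ^ N + 1)) := by
    rw [Nat.card_congr e.toEquiv, Nat.card_prod, Nat.card_eq_fintype_card (α := Multiplicative (ZMod 2)),
      show Fintype.card (Multiplicative (ZMod 2)) = 2 from rfl, ← hF]
    obtain ⟨p, hp⟩ := CharP.exists F
    have ho : Odd (Fintype.card F) := hF ▸ Odd.pow (by decide)
    exact card_psl ho
  have hpow : 3 ∣ 3 ^ N := dvd_pow_self 3 (by omega)
  have h31 : ¬ 3 ∣ (3 ^ N - 1) * (3 ^ N + 1) := by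
    have : 0 < 3 ^ N := pow_pos (by norm_num) _
    rw [Nat.prime_three.dvd_mul]
    omega
  have hno : ¬ 3 ^ (N + 1) ∣ Nat.card C := by
    rw [hcC, pow_succ]
    intro h
    exact h31 (Nat.dvd_of_mul_dvd_mul_left (pow_pos (by norm_num) _) h)
  obtain ⟨U₀, hU₀⟩ := Sylow.exists_subgroup_card_pow_prime (G := C) 3 (n := N) (by
    rw [hcC]; exact dvd_mul_right _ _)
  set U := U₀.map C.subtype with hU
  have hUC : U ≤ C := map_subtype_le _
  have hUc : Nat.card U = 3 ^ N := by rw [card_map_of_injective C.subtype_injective, hU₀]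
  set M := normalizer (U : Set G) with hM
  have htC : t ∈ C := mem_centralizer_singleton_iff.2 rfl
  have htM : t ∈ M := mem_normalizer_fintype fun u hu => by
    rwa [← mem_centralizer_singleton_iff.1 (hUC hu), mul_inv_cancel_right]
  let tM : M := ⟨t, htM⟩
  have htM2 : orderOf tM = 2 := by rw [← Subgroup.orderOf_coe]; exact ht
  -- 2-elements of `C ∩ M` lie in `⟨t⟩`
  have hsmall : ∀ s ∈ M, s ∈ C → (∃ k, orderOf s = 2 ^ k) → s ∈ zpowers t := by
    intro s hsM hsC hs
    let π : C →* PSL := (MonoidHom.snd _ _).comp e.toMonoidHom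
    have hker : ∀ c : C, π c = 1 → c * c = 1 := fun c hc => e.injective (by
      rw [map_mul, map_one]
      exact Prod.ext (CfsgLib.Recognition.ReeCentralizer.two_sq _).1
        (by show (e c).2 * (e c).2 = 1; rw [show (e c).2 = 1 from hc, one_mul]))
    have hP : IsPGroup 3 (U₀.map π) := (IsPGroup.of_card hU₀).map π
    have hP1 : U₀.map π ≠ ⊥ := by
      intro h
      obtain ⟨u, hu⟩ := exists_prime_orderOf_dvd_card' (G := U₀) 3 (hU₀ ▸ hpow)
      have h2 := hker (u : C) (mem_bot.1 (h ▸ mem_map_of_mem π u.2))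
      have h3 := orderOf_dvd_of_pow_eq_one (show (u : C) ^ 2 = 1 by rw [pow_two, h2])
      rw [Subgroup.orderOf_coe, hu] at h3
      norm_num at h3
    obtain ⟨k, hk⟩ := hs
    have hsn : π ⟨s, hsC⟩ ∈ normalizer (U₀.map π : Set PSL) := mem_normalizer_fintype (by
      rintro _ ⟨u, hu, rfl⟩
      refine ⟨⟨s, hsC⟩ * u * ⟨s, hsC⟩⁻¹, ?_, by simp⟩
      obtain ⟨v, hv, hve⟩ := (mem_normalizer_iff.1 hsM (u : G)).1 ⟨u, hu, rfl⟩
      rwa [show (⟨s, hsC⟩ : C) * u * ⟨s, hsC⟩⁻¹ = v from Subtype.ext hve.symm])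
    obtain ⟨j, -, hj⟩ := (Nat.dvd_prime_pow Nat.prime_two).1
      (show orderOf (π ⟨s, hsC⟩) ∣ 2 ^ k from hk ▸ (orderOf_map_dvd π _).trans
        (by rw [← Subgroup.orderOf_coe]))
    have h1 := psl2_normalizing hF hP hP1 ⟨j, hj⟩ hsn
    have h1t : (e ⟨t, htC⟩).2 = 1 := by
      refine psl2_normalizing hF hP hP1 ⟨if (e ⟨t, htC⟩).2 = 1 then 0 else 1, ?_⟩ ?_
      · split
        · next h => rw [h, orderOf_one, pow_zero]
        · next h =>
          rw [pow_one]
          refine orderOf_eq_prime ?_ h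
          have : (⟨t, htC⟩ : C) ^ 2 = 1 := Subtype.ext (ht ▸ pow_orderOf_eq_one t)
          exact ((congrArg Prod.snd (map_pow e ⟨t, htC⟩ 2)).symm.trans (congrArg (fun c => (e c).2) this)).trans (congrArg Prod.snd (map_one e))
      · refine mem_normalizer_fintype ?_
        rintro _ ⟨u, hu, rfl⟩
        refine ⟨u, hu, ?_⟩
        show π u = π ⟨t, htC⟩ * π u * (π ⟨t, htC⟩)⁻¹
        rw [← map_inv, ← map_mul, ← map_mul]
        exact congrArg π (Subtype.ext (by
          show (u : G) = t * u * t⁻¹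
          rw [← mem_centralizer_singleton_iff.1 u.2, mul_inv_cancel_right]))
    have h01 : ∀ i : Multiplicative (ZMod 2), i = 1 ∨ i = Multiplicative.ofAdd 1 :=
      CfsgLib.KnownA.J1Facts.zmod_two_cases
    rcases h01 (e ⟨s, hsC⟩).1 with hi | hi
    · have : (⟨s, hsC⟩ : C) = 1 := e.injective (by
        rw [map_one]; exact Prod.ext hi h1)
      rw [show s = 1 from congrArg Subtype.val this]
      exact one_mem _
    · rcases h01 (e ⟨t, htC⟩).1 with hi' | hi'
      · exfalso
        have : (⟨t, htC⟩ : C) = 1 := e.injective (by rw [map_one]; exact Prod.ext hi' h1t)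
        rw [show t = 1 from congrArg Subtype.val this, orderOf_one] at ht
        norm_num at ht
      · have : (⟨s, hsC⟩ : C) = ⟨t, htC⟩ :=
          e.injective (Prod.ext (hi.trans hi'.symm) (h1.trans h1t.symm))
        rw [show s = t from congrArg Subtype.val this]
        exact mem_zpowers t
  -- the Sylow 2-subgroups of `M` have order two
  obtain ⟨Q, hQ⟩ := (IsPGroup.of_card (n := 1) (G := zpowers tM) (by
    rw [Nat.card_zpowers, htM2, pow_one])).exists_le_sylow
  have hQ2 : Nat.card (Q : Subgroup M) = 2 := by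
    by_contra hne
    obtain ⟨k, hk⟩ := IsPGroup.iff_card.1 Q.2
    set T : Subgroup (Q : Subgroup M) := (zpowers tM).subgroupOf (Q : Subgroup M) with hT
    have hTc : Nat.card T = 2 := by
      rw [Nat.card_congr (subgroupOfEquivOfLe hQ).toEquiv, Nat.card_zpowers, htM2]
    have hTt : T < ⊤ := lt_top_iff_ne_top.2 fun h => hne (by rw [h, card_top] at hTc; exact hTc)
    haveI : Group.IsNilpotent (Q : Subgroup M) := Q.2.isNilpotent
    obtain ⟨s, hsN, hsT⟩ := SetLike.exists_of_lt (Group.normalizerCondition_of_isNilpotent T hTt)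
    have htT : (⟨tM, hQ (mem_zpowers tM)⟩ : (Q : Subgroup M)) ∈ T := mem_zpowers tM
    have hst := (mem_normalizer_iff.1 hsN _).1 htT
    have hst' : (s : M) * tM * (s : M)⁻¹ = tM := by
      obtain ⟨i, hi⟩ := mem_zpowers_iff.1 (mem_subgroupOf.1 hst)
      have hne1 : (s : M) * tM * (s : M)⁻¹ ≠ 1 := fun h => by
        rw [conj_eq_one_iff] at h
        rw [h, orderOf_one] at htM2
        norm_num at htM2
      have h2 : tM * tM = 1 := by rw [← pow_two, ← htM2]; exact pow_orderOf_eq_one _
      rcases Int.even_or_odd i with ⟨j, rfl⟩ | ⟨j, rfl⟩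
      · exfalso
        rw [← two_mul, zpow_mul, zpow_two, h2, one_zpow] at hi
        exact hne1 hi.symm
      · rw [zpow_add, zpow_mul, zpow_two, h2, one_zpow, one_mul, zpow_one] at hi
        exact hi.symm
    have hsC : ((s : M) : G) ∈ C := mem_centralizer_singleton_iff.2
      (congrArg Subtype.val (mul_inv_eq_iff_eq_mul.1 hst') :)
    obtain ⟨i, hi⟩ := IsPGroup.iff_orderOf.1 Q.2 s
    obtain ⟨j, hj⟩ := hsmall _ (s : M).2 hsC ⟨i, by rw [Subgroup.orderOf_coe, Subgroup.orderOf_coe]; exact hi⟩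
    exact hsT ⟨j, Subtype.ext (by rw [SubgroupClass.coe_zpow]; exact hj)⟩
  have hMc : Nat.card M = 2 * (Q : Subgroup M).index := by
    have := (Q : Subgroup M).card_mul_index
    rw [hQ2] at this
    exact this.symm
  have hodd : Odd (Q : Subgroup M).index := Nat.not_even_iff_odd.1 fun h =>
    Q.not_dvd_index (even_iff_two_dvd.1 h)
  obtain ⟨ε, hε⟩ := CfsgLib.Involution.TwoTimesPSL.exists_parity M hodd hMc
  have ht1 : tM ≠ 1 := fun h => by rw [h, orderOf_one] at htM2; norm_num at htM2
  have hεt : ε tM = -1 := hε tM (by rw [← pow_two, ← htM2]; exact pow_orderOf_eq_one _) ht1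
  have hsurj : Function.Surjective ε := fun i => by
    rcases Int.units_eq_one_or i with rfl | rfl
    · exact ⟨1, map_one ε⟩
    · exact ⟨tM, hεt⟩
  set O := ε.ker with hO
  have hOidx : O.index = 2 := by
    rw [hO, index_ker, MonoidHom.range_eq_top.2 hsurj, card_top, Nat.card_eq_fintype_card,
      Fintype.card_units_int]
  obtain ⟨R⟩ : Nonempty (Sylow 3 O) := inferInstance
  have hR : 3 ^ (N + 1) ∣ Nat.card (R : Subgroup O) := by
    refine R.pow_dvd_card_of_pow_dvd_card ?_
    have h1 : 3 ^ (N + 1) ∣ Nat.card M :=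
      Sylow.prime_pow_dvd_card_normalizer (G := G) (n := N) hdvd hUc
    rw [← O.card_mul_index, hOidx] at h1
    exact (Nat.Coprime.pow_left _ (by norm_num : Nat.Coprime 3 2)).dvd_of_dvd_mul_right h1
  -- an involution of the normaliser of `R`
  set R' : Subgroup M := (R : Subgroup O).map O.subtype with hR'
  have hfr : normalizer (R' : Set M) ⊔ O = ⊤ := Sylow.normalizer_sup_eq_top R
  have heven : 2 ∣ Nat.card (normalizer (R' : Set M)) := by
    by_contra hodd'
    have hdet : ∀ m ∈ normalizer (R' : Set M), ε m = 1 := by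
      intro m hm
      rcases Int.units_eq_one_or (ε m) with h | h
      · exact h
      · exfalso
        have h1 : orderOf (ε m) ∣ Nat.card (normalizer (R' : Set M)) :=
          (orderOf_map_dvd ε m).trans (Subgroup.orderOf_dvd_natCard _ hm)
        rw [h, show orderOf (-1 : ℤˣ) = 2 from orderOf_eq_prime (by decide) (by decide)] at h1
        exact hodd' h1
    have htop : tM ∈ normalizer (R' : Set M) ⊔ O := hfr ▸ mem_top tM
    have : normalizer (R' : Set M) ⊔ O ≤ O := sup_le (fun m hm => hdet m hm) le_rfl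
    have h2 : ε tM = 1 := this htop
    rw [hεt] at h2
    exact absurd h2 (by decide)
  obtain ⟨v, hv⟩ := exists_prime_orderOf_dvd_card' (G := normalizer (R' : Set M)) 2 heven
  have hv' : orderOf (v : M) = 2 := by rw [Subgroup.orderOf_coe, hv]
  obtain ⟨Q', hQ'⟩ := (IsPGroup.of_card (n := 1) (G := zpowers (v : M)) (by
    rw [Nat.card_zpowers, hv', pow_one])).exists_le_sylow
  obtain ⟨m, hm⟩ := MulAction.exists_smul_eq M Q' Q
  have hQeq : (Q : Subgroup M) = zpowers tM :=
    (Subgroup.eq_of_le_of_card_ge hQ (by rw [hQ2, Nat.card_zpowers, htM2])).symm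
  have hmv : m * v * m⁻¹ = tM := by
    have h1 : m * v * m⁻¹ ∈ zpowers tM := by
      rw [← hQeq, ← hm]
      exact ⟨v, hQ' (mem_zpowers _), rfl⟩
    obtain ⟨i, hi⟩ := h1
    have h2 : tM * tM = 1 := by rw [← pow_two, ← htM2]; exact pow_orderOf_eq_one _
    rcases Int.even_or_odd i with ⟨j, rfl⟩ | ⟨j, rfl⟩
    · exfalso
      simp only at hi
      rw [← two_mul, zpow_mul, zpow_two, h2, one_zpow] at hi
      have h3 : (v : M) = 1 := conj_eq_one_iff.1 hi.symm
      rw [h3, orderOf_one] at hv'
      norm_num at hv'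
    · simp only at hi
      rw [zpow_add, zpow_mul, zpow_two, h2, one_zpow, one_mul, zpow_one] at hi
      exact hi.symm
  -- the conjugate of `R` is normalised by `t` and not centralised
  set P : Subgroup G := (R'.map (MulAut.conj m).toMonoidHom).map M.subtype with hP
  have hPp : IsPGroup 3 P := ((R.2.map _).map _).map _
  have hPc : Nat.card P = Nat.card (R : Subgroup O) := by
    rw [hP, card_map_of_injective M.subtype_injective,
      card_map_of_injective (f := (MulAut.conj m).toMonoidHom) (MulAut.conj m).injective, hR',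
      card_map_of_injective O.subtype_injective]
  have htP : t ∈ normalizer (P : Set G) := mem_normalizer_fintype (by
    rintro _ ⟨_, ⟨a, ha, rfl⟩, rfl⟩
    refine ⟨_, ⟨(v : M) * a * (v : M)⁻¹, (mem_normalizer_iff.1 v.2 a).1 ha, rfl⟩, ?_⟩
    show ((m * ((v : M) * a * (v : M)⁻¹) * m⁻¹ : M) : G) = (tM : G) * ((m * a * m⁻¹ : M) : G) * (tM : G)⁻¹
    rw [← hmv]
    simp only [← Subgroup.coe_inv, ← Subgroup.coe_mul]
    exact congrArg Subtype.val (by simp only [InvMemClass.coe_inv]; group))
  have htc : t ∉ centralizer (P : Set G) := fun h => hno (by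
    have hle : P ≤ C := fun p hp => mem_centralizer_singleton_iff.2
      (mem_centralizer_iff.1 h p hp)
    exact (hPc ▸ hR).trans (card_dvd_of_le hle))
  obtain ⟨e₃⟩ := Cfsg.Agent.S2759.perm_three_equiv
  exact Cfsg.Agent.S2759.involves_congr e₃.symm
    ((Cfsg.Agent.S2758.result (p := 3) (by norm_num)).1.2 ⟨t, P, ⟨1, by rw [ht, pow_one]⟩, hPp, htP, htc⟩)

end CfsgLib.LocalEven.GoldschmidtFree
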